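import Groth.Agent.Flat2H.FamDict
import Groth.Prelude.Def_CohB1

/-!
# An ample sheaf gives finitely many families of the same weight with affine loci covering the scheme
-/

set_option autoImplicit false
universe u
open CategoryTheory AlgebraicGeometry TopologicalSpace Opposite

namespace K434.AmpleFam

open Groth.Agent.Flat2H.FamDict Groth.Agent.Flat2H.FamExt

theorem IsFam.pow {X : Scheme.{u}} {ι : Type*} {W : ι → X.Opens} {g : ∀ i j, Γ(X, W i ⊓ W j)}
    {b : ∀ j, Γ(X, W j)} (h : IsFam W g b) (m : ℕ) :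
    IsFam W (fun i j => g i j ^ m) (fun j => b j ^ m) := by
  intro i j
  have h1 := congrArg (· ^ m) (h i j)
  simpa only [map_pow, mul_pow] using h1

theorem exists_families {Y : Scheme.{u}} {M : Y.Modules} (hA : CohB1.IsAmple M) :
    ∃ (N m : ℕ) (W : Fin N → Y.Opens) (g : ∀ i j, Γ(Y, W i ⊓ W j)) (b : Fin m → ∀ j, Γ(Y, W j)),
      (∀ y : Y, ∃ i, y ∈ W i) ∧ (∀ i j, IsUnit (g i j)) ∧
      (∀ t, Groth.Agent.Flat2H.FamExt.IsFam W g (b t)) ∧
      (∀ t, IsAffineOpen (⨆ j, Y.basicOpen (b t j))) ∧ ∀ y : Y, ∃ t, y ∈ ⨆ j, Y.basicOpen (b t j) := by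
  classical
  have hc : CompactSpace Y := hA.2.1
  obtain ⟨N, W, g, -, hW⟩ := exists_trivs hA.1 (fun _ ↦ True) (fun U x hx ↦ ⟨U, hx, le_rfl, trivial⟩)
  choose n b hb hyb haff using (hW.isAmple_iff.1 hA).2
  obtain ⟨t, ht⟩ := isCompact_univ.elim_finite_subcover
    (fun y : Y ↦ ((⨆ j, Y.basicOpen (b y j) : Y.Opens) : Set Y)) (fun y ↦ (⨆ j, Y.basicOpen (b y j)).isOpen)
    (fun y _ ↦ Set.mem_iUnion.2 ⟨y, hyb y⟩)
  let f : Fin t.card ≃ t := t.equivFin.symm
  let n₀ : ℕ := ∏ y ∈ t, (n y + 1)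
  have hdvd : ∀ y ∈ t, (n y + 1) ∣ n₀ := fun y hy => Finset.dvd_prod_of_mem _ hy
  choose! q hq using hdvd
  have hn₀ : 0 < n₀ := Finset.prod_pos fun y _ => Nat.succ_pos _
  have hq0 : ∀ y ∈ t, 0 < q y := by
    intro y hy
    rcases Nat.eq_zero_or_pos (q y) with h0 | h0
    · have h1 := hq y hy
      rw [h0, mul_zero] at h1
      omega
    · exact h0
  have hloc : ∀ k : Fin t.card, (⨆ j, Y.basicOpen (b (f k).1 j ^ q (f k).1)) = ⨆ j, Y.basicOpen (b (f k).1 j) := by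
    intro k
    congr 1
    funext j
    exact Y.basicOpen_pow _ (hq0 _ (f k).2)
  refine ⟨N, t.card, W, fun i j => g i j ^ n₀, fun k j => b (f k).1 j ^ q (f k).1, hW.1,
    fun i j => (hW.isUnit i j).pow _, ?_, ?_, ?_⟩
  · intro k
    have h1 := IsFam.pow (hb (f k).1) (q (f k).1)
    intro i j
    have h2 := h1 i j
    simp only [← pow_mul] at h2
    rw [← hq _ (f k).2] at h2
    exact h2
  · intro k
    rw [hloc]
    exact haff _
  · intro y
    obtain ⟨z, hz, hy⟩ := Set.mem_iUnion₂.1 (ht (Set.mem_univ y))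
    refine ⟨f.symm ⟨z, hz⟩, ?_⟩
    rw [hloc]
    simpa using hy

end K434.AmpleFam
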